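import Mathlib

/-!
# The exceptional automorphism of `Sp_4(F)`, `char F = 2` (S0814, S2600): the matrix-level definition

`V = F^4` with basis `e1 = inl 0, e2 = inl 1, f1 = inr 0, f2 = inr 1` (`J = [0 -1; 1 0]`). The exterior square of
`g ∈ Sp_4(F)` preserves `ω = e1∧f1 + e2∧f2` and (char 2) `ω ∈ ω^⊥`; on the 4-dimensional space `ω^⊥/ω` with basis
`E1 = e1∧e2, E2 = e1∧f2, F1 = f1∧f2, F2 = e2∧f1` it acts by the matrix `phiMat g` of 2×2 minors of `g`.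
-/

set_option autoImplicit false

namespace Cfsg.Agent.Helper40.Sp4Exc

/-- the pair of basis vectors whose wedge is the basis vector `I` of `ω^⊥/ω` -/
def pr (I : Fin 2 ⊕ Fin 2) : (Fin 2 ⊕ Fin 2) × (Fin 2 ⊕ Fin 2) :=
  Sum.elim (fun i : Fin 2 => if i = 0 then (Sum.inl 0, Sum.inl 1) else (Sum.inl 0, Sum.inr 1))
    (fun i : Fin 2 => if i = 0 then (Sum.inr 0, Sum.inr 1) else (Sum.inl 1, Sum.inr 0)) I

/-- the matrix of 2×2 minors of `g` on the non-hyperbolic pairs -/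
def phiMat {R : Type*} [CommRing R] (g : Matrix (Fin 2 ⊕ Fin 2) (Fin 2 ⊕ Fin 2) R) :
    Matrix (Fin 2 ⊕ Fin 2) (Fin 2 ⊕ Fin 2) R :=
  Matrix.of fun I J =>
    g (pr I).1 (pr J).1 * g (pr I).2 (pr J).2 - g (pr I).1 (pr J).2 * g (pr I).2 (pr J).1

theorem phiMat_apply {R : Type*} [CommRing R] (g : Matrix (Fin 2 ⊕ Fin 2) (Fin 2 ⊕ Fin 2) R)
    (I J : Fin 2 ⊕ Fin 2) :
    phiMat g I J =
      g (pr I).1 (pr J).1 * g (pr I).2 (pr J).2 - g (pr I).1 (pr J).2 * g (pr I).2 (pr J).1 := rfl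

end Cfsg.Agent.Helper40.Sp4Exc
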