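import Mathlib
import Cfsg.Agent.Lib.Helper40.Sp4Exc.Defs
import Cfsg.Agent.Lib.Helper19.SPXM

/-!
# SPX piece (M) (helper19), re-exported
-/

set_option autoImplicit false

namespace Cfsg.Agent.Helper40.Sp4Exc

open Cfsg Cfsg.Agent.Helper40.Sp4Exc

theorem phiMat_mul {R : Type*} [CommRing R] (h2 : (2 : R) = 0)
    (g h : Matrix (Fin 2 ⊕ Fin 2) (Fin 2 ⊕ Fin 2) R)
    (hg : g * Matrix.J (Fin 2) R * g.transpose = Matrix.J (Fin 2) R)
    (hh : h.transpose * Matrix.J (Fin 2) R * h = Matrix.J (Fin 2) R) :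
    phiMat (g * h) = phiMat g * phiMat h :=
  Cfsg.Agent.Helper19.SPX.phiMat_mul h2 g h hg hh

end Cfsg.Agent.Helper40.Sp4Exc
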