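import Mathlib
import Cfsg.Agent.Lib.Helper40.Sp4Exc.PiecesM
import Cfsg.Agent.Lib.Helper40.AutPSpBasic
import Cfsg.Agent.Lib.Helper40.AutPSpKer
import Cfsg.Agent.Lib.Helper14.SpExcTwoB
import Cfsg.Agent.Lib.Helper14.LocalBalSpMain
import Cfsg.Agent.Lib.Helper5.SpAut6
import Cfsg.Agent.S0270

/-!
# The exceptional endomorphism of `Sp_4(F)`, `char F = 2`
-/

set_option autoImplicit false
set_option linter.unusedSectionVars false
set_option linter.unusedVariables false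
set_option linter.unusedSimpArgs false

namespace Cfsg.Agent.Helper40.Sp4Exc

open Cfsg Matrix

section mat

variable {R : Type*} [CommRing R]

theorem phiMat_transpose (g : Matrix (Fin 2 ⊕ Fin 2) (Fin 2 ⊕ Fin 2) R) :
    phiMat g.transpose = (phiMat g).transpose := by
  ext I J
  rw [Matrix.transpose_apply, phiMat_apply, phiMat_apply]
  simp only [Matrix.transpose_apply]
  ring

theorem phiMat_one : phiMat (1 : Matrix (Fin 2 ⊕ Fin 2) (Fin 2 ⊕ Fin 2) R) = 1 := by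
  ext I J
  rw [phiMat_apply]
  fin_cases I <;> fin_cases J <;> simp [pr, Matrix.one_apply]

theorem phiMat_J (h2 : (2 : R) = 0) : phiMat (Matrix.J (Fin 2) R) = Matrix.J (Fin 2) R := by
  have hneg : (-1 : R) = 1 := by linear_combination -h2
  ext I J
  rw [phiMat_apply]
  fin_cases I <;> fin_cases J <;> simp [pr, Matrix.J, Matrix.one_apply, hneg]

end mat

section grp

variable {F : Type*} [Field F] [CharP F 2]

theorem phiMat_mem {g : Matrix (Fin 2 ⊕ Fin 2) (Fin 2 ⊕ Fin 2) F}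
    (hg : g ∈ Matrix.symplecticGroup (Fin 2) F) :
    phiMat g ∈ Matrix.symplecticGroup (Fin 2) F := by
  have hg0 := hg
  rw [SymplecticGroup.mem_iff] at hg ⊢
  have h2 : (2 : F) = 0 := CharTwo.two_eq_zero
  have hJ : (J (Fin 2) F)ᵀ * J (Fin 2) F * J (Fin 2) F = J (Fin 2) F :=
    SymplecticGroup.mem_iff'.1 (SymplecticGroup.J_mem (Fin 2) F)
  have hgJ : (g * J (Fin 2) F) * J (Fin 2) F * (g * J (Fin 2) F)ᵀ = J (Fin 2) F :=
    SymplecticGroup.mem_iff.1 (mul_mem hg0 (SymplecticGroup.J_mem (Fin 2) F))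
  have hgt : (gᵀ)ᵀ * J (Fin 2) F * gᵀ = J (Fin 2) F := by
    rw [transpose_transpose]; exact hg
  calc phiMat g * J (Fin 2) F * (phiMat g)ᵀ
      = phiMat g * phiMat (J (Fin 2) F) * phiMat gᵀ := by rw [phiMat_J h2, phiMat_transpose]
    _ = phiMat (g * J (Fin 2) F) * phiMat gᵀ := by rw [phiMat_mul h2 g (J (Fin 2) F) hg hJ]
    _ = phiMat (g * J (Fin 2) F * gᵀ) := by rw [phiMat_mul h2 (g * J (Fin 2) F) gᵀ hgJ hgt]
    _ = J (Fin 2) F := by rw [hg, phiMat_J h2]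

/-- the exceptional endomorphism of `Sp_4(F)` -/
def phiSp : Matrix.symplecticGroup (Fin 2) F →* Matrix.symplecticGroup (Fin 2) F where
  toFun g := ⟨phiMat g.1, phiMat_mem g.2⟩
  map_one' := Subtype.ext phiMat_one
  map_mul' g h := Subtype.ext (phiMat_mul CharTwo.two_eq_zero g.1 h.1
    (SymplecticGroup.mem_iff.1 g.2) (SymplecticGroup.mem_iff'.1 h.2))

theorem phiSp_val (g : Matrix.symplecticGroup (Fin 2) F) : (phiSp g).1 = phiMat g.1 := rfl

theorem det_eq_one_of_mem {g : Matrix (Fin 2 ⊕ Fin 2) (Fin 2 ⊕ Fin 2) F}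
    (hg : g ∈ Matrix.symplecticGroup (Fin 2) F) : g.det = 1 := by
  rw [SymplecticGroup.mem_iff] at hg
  have h1 := congrArg Matrix.det hg
  rw [Matrix.det_mul, Matrix.det_mul, Matrix.det_transpose] at h1
  have hJ : (J (Fin 2) F).det ≠ 0 := (Matrix.isUnit_det_J (Fin 2) F).ne_zero
  have h3 : g.det * g.det = 1 := by
    apply mul_right_cancel₀ hJ
    linear_combination h1
  have h4 : (g.det - 1) * (g.det - 1) = 0 := by
    have h2 : (2 : F) = 0 := CharTwo.two_eq_zero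
    linear_combination h3 - g.det * h2 + h2
  have h5 : g.det - 1 = 0 := by
    rcases mul_eq_zero.1 h4 with h | h <;> exact h
  linear_combination h5

end grp

section aut

open Cfsg.Agent.Helper40.AutPSp Cfsg.Agent.Helper5.SpAut Cfsg.Agent.Helper14.SpExc Cfsg.Agent.Helper13
  Cfsg.Agent.Helper84.SpRoot Cfsg.Agent.Helper14.LocalBal

variable {F : Type*} [Field F] [CharP F 2]

/-- the exceptional endomorphism of `PSp_4(F)` -/
noncomputable def phiPSp : Cfsg.PSp 2 F →* Cfsg.PSp 2 F :=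
  QuotientGroup.map _ _ (phiSp (F := F)) (by
    intro z hz
    have h1 : z = 1 := center_eq_bot_of_char_two (by norm_num) hz
    rw [h1]
    exact Subgroup.one_mem _)

theorem phiPSp_mk (g : Matrix.symplecticGroup (Fin 2) F) :
    phiPSp (QuotientGroup.mk g : Cfsg.PSp 2 F) = QuotientGroup.mk (phiSp g) := rfl

theorem phiMat_transv :
    phiMat (Cfsg.sympTransvection 2 (Pi.single (Sum.inl 0) 1 : Fin 2 ⊕ Fin 2 → F) (1 : F)) =
      eichM (Pi.single (Sum.inl 0) 1 : Fin 2 ⊕ Fin 2 → F)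
        ((1 : F) • (Pi.single (Sum.inl 1) 1 : Fin 2 ⊕ Fin 2 → F)) 0 := by
  have hneg : (-1 : F) = 1 := CharTwo.neg_eq 1
  ext I J
  rw [phiMat_apply]
  fin_cases I <;> fin_cases J <;>
    simp [pr, Cfsg.sympTransvection, eichM, Matrix.vecMulVec_apply, Matrix.J, Matrix.mulVec,
      dotProduct, Fintype.sum_sum_type, Pi.single_apply, Matrix.one_apply, hneg]

theorem sympForm_e2_e1 :
    Cfsg.sympForm 2 F (Pi.single (Sum.inl 1) 1 : Fin 2 ⊕ Fin 2 → F)
      (Pi.single (Sum.inl 0) 1 : Fin 2 ⊕ Fin 2 → F) = 0 := by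
  simp [Cfsg.sympForm, Matrix.J, Matrix.mulVec, dotProduct, Fintype.sum_sum_type, Pi.single_apply]

theorem phiSp_sympT :
    phiSp (sympT (Pi.single (Sum.inl 0) 1 : Fin 2 ⊕ Fin 2 → F) (1 : F)) =
      eich (Pi.single (Sum.inl 0) 1 : Fin 2 ⊕ Fin 2 → F)
        ((1 : F) • (Pi.single (Sum.inl 1) 1 : Fin 2 ⊕ Fin 2 → F)) 0 := by
  have h0 : Cfsg.sympForm 2 F ((1 : F) • (Pi.single (Sum.inl 1) 1 : Fin 2 ⊕ Fin 2 → F))
      (Pi.single (Sum.inl 0) 1 : Fin 2 ⊕ Fin 2 → F) = 0 := by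
    rw [one_smul]; exact sympForm_e2_e1
  apply Subtype.ext
  unfold eich
  rw [dif_pos h0]
  exact phiMat_transv

variable [Fintype F]

theorem eichM_ne_one :
    eichM (Pi.single (Sum.inl 0) 1 : Fin 2 ⊕ Fin 2 → F)
        ((1 : F) • (Pi.single (Sum.inl 1) 1 : Fin 2 ⊕ Fin 2 → F)) 0 ≠ 1 := by
  intro h
  have h1 := congrFun (congrFun h (Sum.inl 1)) (Sum.inr 0)
  simp [eichM, Matrix.vecMulVec_apply, Matrix.J, Matrix.mulVec, dotProduct, Fintype.sum_sum_type,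
    Pi.single_apply, Matrix.one_apply] at h1

theorem phiPSp_injective (h3 : 3 ≤ Fintype.card F) : Function.Injective (phiPSp (F := F)) := by
  have hs : IsSimpleGroup (Cfsg.PSp 2 F) := Cfsg.Agent.S0270.result 2 le_rfl (fun _ => h3)
  rw [← MonoidHom.ker_eq_bot_iff]
  rcases (MonoidHom.normal_ker (phiPSp (F := F))).eq_bot_or_eq_top with h | h
  · exact h
  · exfalso
    have h1 : (QuotientGroup.mk (sympT (Pi.single (Sum.inl 0) 1 : Fin 2 ⊕ Fin 2 → F) (1 : F)) :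
        Cfsg.PSp 2 F) ∈ (phiPSp (F := F)).ker := by rw [h]; trivial
    rw [MonoidHom.mem_ker, phiPSp_mk, phiSp_sympT] at h1
    have h2 : (QuotientGroup.mk (eich (Pi.single (Sum.inl 0) 1 : Fin 2 ⊕ Fin 2 → F)
        ((1 : F) • (Pi.single (Sum.inl 1) 1 : Fin 2 ⊕ Fin 2 → F)) 0) : Cfsg.PSp 2 F) =
        QuotientGroup.mk 1 := h1
    have h3' := mk_inj (by norm_num) h2
    have h4 := congrArg Subtype.val h3'
    have h0 : Cfsg.sympForm 2 F ((1 : F) • (Pi.single (Sum.inl 1) 1 : Fin 2 ⊕ Fin 2 → F))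
        (Pi.single (Sum.inl 0) 1 : Fin 2 ⊕ Fin 2 → F) = 0 := by
      rw [one_smul]; exact sympForm_e2_e1
    unfold eich at h4
    rw [dif_pos h0] at h4
    exact eichM_ne_one h4

/-- the exceptional automorphism of `PSp_4(F)` -/
noncomputable def phiAut (h3 : 3 ≤ Fintype.card F) : MulAut (Cfsg.PSp 2 F) :=
  MulEquiv.ofBijective (phiPSp (F := F))
    (Finite.injective_iff_bijective.1 (phiPSp_injective h3))

theorem phiAut_mk (h3 : 3 ≤ Fintype.card F) (g : Matrix.symplecticGroup (Fin 2) F) :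
    phiAut h3 (QuotientGroup.mk g : Cfsg.PSp 2 F) = QuotientGroup.mk (phiSp g) := rfl

end aut

section notmem

open Cfsg.Agent.Helper40.AutPSp Cfsg.Agent.Helper5.SpAut Cfsg.Agent.Helper14.SpExc Cfsg.Agent.Helper13
  Cfsg.Agent.Helper84.SpRoot Cfsg.Agent.Helper14.LocalBal

variable {F : Type*} [Field F] [CharP F 2]

variable [Fintype F]

/-- the exceptional automorphism is not induced by a semilinear map -/
theorem phiAut_not_mem (h3 : 3 ≤ Fintype.card F) : (phiAut (F := F) h3) ∉ gammaSub 2 F := by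
  intro hmem
  obtain ⟨G, σ, hGσ⟩ := (mem_gammaSub _).1 hmem
  have he1 : (Pi.single (Sum.inl 0) 1 : Fin 2 ⊕ Fin 2 → F) ≠ 0 := by
    intro h
    have := congrFun h (Sum.inl 0)
    simp at this
  -- the image of the transvection
  have hz1 : phiAut h3 (QuotientGroup.mk (sympT (Pi.single (Sum.inl 0) 1 : Fin 2 ⊕ Fin 2 → F) (1 : F)) :
      Cfsg.PSp 2 F) ∈ Tb ((G.1 : Matrix (Fin 2 ⊕ Fin 2) (Fin 2 ⊕ Fin 2) F) *ᵥ
        (σ ∘ (Pi.single (Sum.inl 0) 1 : Fin 2 ⊕ Fin 2 → F))) := by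
    rw [← map_Tb_PhiSp_field G σ, ← hGσ]
    exact ⟨_, Subgroup.mem_map_of_mem _ (sympT_mem_T _ 1), rfl⟩
  have hw : (G.1 : Matrix (Fin 2 ⊕ Fin 2) (Fin 2 ⊕ Fin 2) F) *ᵥ
      (σ ∘ (Pi.single (Sum.inl 0) 1 : Fin 2 ⊕ Fin 2 → F)) ≠ 0 := by
    intro h
    have h1 := congrArg (fun u => (((G.1)⁻¹ : GL (Fin 2 ⊕ Fin 2) F) :
      Matrix (Fin 2 ⊕ Fin 2) (Fin 2 ⊕ Fin 2) F) *ᵥ u) h
    simp only [Matrix.mulVec_mulVec, coe_inv_mul', Matrix.one_mulVec, Matrix.mulVec_zero] at h1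
    have h2 := congrFun h1 (Sum.inl 0)
    simp at h2
  have hz2 : phiAut h3 (QuotientGroup.mk (sympT (Pi.single (Sum.inl 0) 1 : Fin 2 ⊕ Fin 2 → F) (1 : F)) :
      Cfsg.PSp 2 F) ∈ Sb (Pi.single (Sum.inl 0) 1 : Fin 2 ⊕ Fin 2 → F)
        (Pi.single (Sum.inl 1) 1 : Fin 2 ⊕ Fin 2 → F) sympForm_e2_e1 := by
    rw [phiAut_mk, phiSp_sympT]
    exact Subgroup.mem_map_of_mem _ (mem_S.2 ⟨1, rfl⟩)
  have hz := eq_one_of_mem_Tb_of_mem_Sb (by norm_num) hw hz1 hz2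
  have h3 : (QuotientGroup.mk (sympT (Pi.single (Sum.inl 0) 1 : Fin 2 ⊕ Fin 2 → F) (1 : F)) :
      Cfsg.PSp 2 F) = 1 := by
    apply (phiAut h3).injective
    rw [hz, map_one]
  have h4 : (QuotientGroup.mk (sympT (Pi.single (Sum.inl 0) 1 : Fin 2 ⊕ Fin 2 → F) (1 : F)) :
      Cfsg.PSp 2 F) = QuotientGroup.mk (sympT (Pi.single (Sum.inl 0) 1 : Fin 2 ⊕ Fin 2 → F) (0 : F)) := by
    rw [h3, sympT_zero]
    rfl
  exact one_ne_zero (mk_sympT_inj (by norm_num) he1 h4)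

end notmem

end Cfsg.Agent.Helper40.Sp4Exc
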