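import Mathlib
import Cfsg.Agent.Lib.Helper40.Sp4Exc.Defs
import Cfsg.Agent.Lib.Helper40.AutPSpBasic
import Cfsg.Agent.Lib.Helper5.SPXN

/-!
# SPX piece (N) (helper5), re-exported
-/

set_option autoImplicit false

namespace Cfsg.Agent.Helper40.Sp4Exc

open Cfsg Cfsg.Agent.Helper40.Sp4Exc

open Cfsg.Agent.Helper40.AutPSp in
theorem card_gammaSub {F : Type*} [Field F] [Fintype F] (p f : ℕ) [Fact p.Prime] (hf : 1 ≤ f)
    (hF : Fintype.card F = p ^ f) (m : ℕ) (hm : 2 ≤ m) :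
    Nat.card ↥(gammaSub m F) = Nat.gcd 2 (p ^ f - 1) * f * Nat.card (Cfsg.PSp m F) :=
  Cfsg.Agent.Helper5.SPX.card_gammaSub p f hf hF m hm

end Cfsg.Agent.Helper40.Sp4Exc
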