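import Mathlib
import Cfsg.Agent.Lib.Helper40.Sp4Exc.Hom
import Cfsg.Agent.Lib.Helper40.Sp4Exc.PiecesNU
import Cfsg.Agent.Lib.Helper40.Sp4Exc.PieceU
import Cfsg.Agent.S2693

/-!
# `|Aut(PSp_{2m}(q))|` (S0814): assembly
-/

set_option autoImplicit false
set_option linter.unusedSectionVars false
set_option linter.unusedVariables false

namespace Cfsg.Agent.Helper40.Sp4Exc

open Cfsg Cfsg.Agent.Helper40.AutPSp

section exc

variable {F : Type*} [Field F] [CharP F 2] [Fintype F]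

/-- the image of `PΓSp_4(2^f)` has index two in `Aut(PSp_4(2^f))` -/
theorem index_gammaSub_two (h3 : 3 ≤ Fintype.card F) : (gammaSub 2 F).index = 2 := by
  rw [Subgroup.index_eq_two_iff]
  refine ⟨phiAut h3, fun b => ?_⟩
  by_cases hb : b ∈ gammaSub 2 F
  · right
    refine ⟨hb, fun hba => phiAut_not_mem h3 ?_⟩
    have := (gammaSub 2 F).mul_mem ((gammaSub 2 F).inv_mem hb) hba
    rwa [inv_mul_cancel_left] at this
  · left
    exact ⟨mul_mem_gammaSub_of_not_mem le_rfl rfl (phiAut h3) b (phiAut_not_mem h3) hb, hb⟩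

theorem card_mulAut_exc (h3 : 3 ≤ Fintype.card F) :
    Nat.card (MulAut (Cfsg.PSp 2 F)) = 2 * Nat.card ↥(gammaSub 2 F) := by
  have h := Subgroup.index_mul_card (gammaSub 2 F)
  rw [index_gammaSub_two h3] at h
  exact h.symm

end exc

/-- `|Aut(PSp_{2m}(q))|` -/
theorem card_mulAut_PSp {F : Type*} [Field F] [Fintype F] (p f : ℕ) [Fact p.Prime] (hf : 1 ≤ f)
    (hF : Fintype.card F = p ^ f) (m : ℕ) (hm : 2 ≤ m) (h22 : m = 2 → 3 ≤ p ^ f) :
    Nat.card (MulAut (Cfsg.PSp m F)) =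
      (if m = 2 ∧ p = 2 then 2 else 1) * Nat.gcd 2 (p ^ f - 1) * f * Nat.card (Cfsg.PSp m F) := by
  have hchar : CharP F p := charP_of_card_eq_prime_pow hF
  by_cases hexc : m = 2 ∧ p = 2
  · obtain ⟨rfl, rfl⟩ := hexc
    rw [if_pos ⟨rfl, rfl⟩]
    have h3 : 3 ≤ Fintype.card F := by rw [hF]; exact h22 rfl
    rw [card_mulAut_exc h3, card_gammaSub 2 f hf hF 2 le_rfl]
    ring
  · rw [if_neg hexc, one_mul]
    have htop : Cfsg.gammaPSp m F = ⊤ :=
      Cfsg.Agent.S2693.result hm (fun h2 hp => hexc ⟨h2, hp⟩)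
    rw [gammaPSp_eq_gammaSub] at htop
    rw [← card_gammaSub p f hf hF m hm, htop]
    exact (Nat.card_congr Subgroup.topEquiv.toEquiv).symm

end Cfsg.Agent.Helper40.Sp4Exc
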